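import Cfsg.Agent.Lib.Spor.Ly.TopIndex.Part0
import Cfsg.Agent.Lib.Spor.Ly.TopIndex.Part1
import Cfsg.Agent.Lib.Spor.Ly.TopIndex.Part2
import Cfsg.Agent.Lib.Spor.Ly.TopIndex.Part3
import Cfsg.Agent.Lib.Spor.Ly.TopIndex.Part4
import Cfsg.Agent.Lib.Spor.Ly.TopIndex.Part5
import Cfsg.Agent.Lib.Spor.Ly.TopIndex.Part6
import Cfsg.Agent.Lib.Spor.Ly.TopIndex.Part7
import Cfsg.Agent.Lib.Spor.Ly.TopIndex.Part8

/-!
The index of ⟨a, b, c⟩ in ⟨a, b, c, d⟩: the assembled checks.
-/

set_option autoImplicit false

namespace CfsgLib.Spor.Ly.TopIndex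

open CfsgLib.Spor.TC

theorem steps_ok : cert.SStepsOK 0 30487 :=
  ((((((((((((steps0.append _ steps3364).append _ steps6505).append _ steps9173).append _ steps11749).append _ steps14402).append _ steps17011).append _ steps19330).append _ steps21675).append _ steps23940).append _ steps26209).append _ steps28340).append _ steps30362)

theorem rows_ok : cert.SRowsOK 30487 3906 0 3906 :=
  ((((rows0.append _ rows834).append _ rows1668).append _ rows2502).append _ rows3336)

theorem row_zero : cert.rowNode 0 = 0 := by decide +kernel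

end CfsgLib.Spor.Ly.TopIndex
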